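import Groth.Agent.Lib.Helper28.Thick.TwoChart

/-!
# A thickening of an affine scheme is affine
-/

set_option autoImplicit false
universe u

open CategoryTheory AlgebraicGeometry TopologicalSpace Opposite

namespace Groth.Agent.Lib.Helper28.Thick

variable {X X' : Scheme.{u}} (t : X ⟶ X')

/-- `f` is *good* if the open of `X'` corresponding to `D(f)` is affine. -/
def Good (f : Γ(X, ⊤)) : Prop :=
  ∃ W : X'.Opens, t ⁻¹ᵁ W = X.basicOpen f ∧ IsAffineOpen W

variable [IsClosedImmersion t] (ht : Function.Surjective t)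

include ht in
lemma good_of_le {W₀ : X'.Opens} (hW₀ : IsAffineOpen W₀) (f : Γ(X, ⊤))
    (hf : X.basicOpen f ≤ t ⁻¹ᵁ W₀) : Good t f := by
  obtain ⟨s, hs⟩ := t.app_surjective W₀ hW₀ (resT t W₀ f)
  refine ⟨X'.basicOpen s, ?_, hW₀.basicOpen s⟩
  rw [Scheme.preimage_basicOpen, hs, Scheme.basicOpen_res]
  exact inf_eq_right.mpr hf

include ht in
lemma good_mul {f : Γ(X, ⊤)} (hf : Good t f) (a : Γ(X, ⊤)) : Good t (a * f) := by
  obtain ⟨W, hW, hWa⟩ := hf
  refine good_of_le t ht hWa (a * f) ?_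
  rw [hW, Scheme.basicOpen_mul]
  exact inf_le_right

lemma good_zero : Good t (0 : Γ(X, ⊤)) :=
  ⟨⊥, by rw [Scheme.basicOpen_zero]; rfl, isAffineOpen_bot X'⟩

variable [IsAffine X]

include ht in
lemma good_add {f g : Γ(X, ⊤)} (hf : Good t f) (hg : Good t g) : Good t (f + g) := by
  obtain ⟨W₁, hW₁, hW₁a⟩ := good_mul t ht hf (f + g)
  obtain ⟨W₂, hW₂, hW₂a⟩ := good_mul t ht hg (f + g)
  obtain ⟨W, hWdef⟩ : ∃ W : X'.Opens, W = W₁ ⊔ W₂ := ⟨_, rfl⟩
  have hW : t ⁻¹ᵁ W = X.basicOpen (f + g) := by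
    rw [hWdef, Scheme.Hom.preimage_sup, hW₁, hW₂, Scheme.basicOpen_mul, Scheme.basicOpen_mul,
      ← inf_sup_left]
    exact inf_eq_left.mpr (X.basicOpen_add_le f g)
  refine ⟨W, hW, ?_⟩
  -- the restricted thickening
  have hXa : IsAffineOpen (t ⁻¹ᵁ W) := by rw [hW]; exact (isAffineOpen_top X).basicOpen _
  haveI : IsAffine (t ⁻¹ᵁ W).toScheme := hXa
  have hsurj : Function.Surjective (t ∣_ W) := by
    intro y
    obtain ⟨x, hx⟩ := ht y.1
    refine ⟨⟨x, by change t x ∈ W; rw [hx]; exact y.2⟩, Subtype.ext ?_⟩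
    exact (morphismRestrict_base_coe t W _).trans hx
  have hcomm : ∀ W' : X'.Opens, (t ∣_ W) ⁻¹ᵁ (W.ι ⁻¹ᵁ W') = (t ⁻¹ᵁ W).ι ⁻¹ᵁ (t ⁻¹ᵁ W') := by
    intro W'
    rw [← Scheme.Hom.comp_preimage, ← Scheme.Hom.comp_preimage, morphismRestrict_ι]
  have hle₁ : W₁ ≤ W := by rw [hWdef]; exact le_sup_left
  have hle₂ : W₂ ≤ W := by rw [hWdef]; exact le_sup_right
  have hA₁ : IsAffineOpen (W.ι ⁻¹ᵁ W₁) :=
    hW₁a.preimage_of_isOpenImmersion W.ι (by rw [Scheme.Opens.opensRange_ι]; exact hle₁)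
  have hA₂ : IsAffineOpen (W.ι ⁻¹ᵁ W₂) :=
    hW₂a.preimage_of_isOpenImmersion W.ι (by rw [Scheme.Opens.opensRange_ι]; exact hle₂)
  have hcover : W.ι ⁻¹ᵁ W₁ ⊔ W.ι ⁻¹ᵁ W₂ = ⊤ := by
    rw [← Scheme.Hom.preimage_sup, ← hWdef, Scheme.Opens.ι_preimage_self]
  exact isAffine_of_two_charts (t ∣_ W) hsurj hA₁ hA₂
    ((t ⁻¹ᵁ W).ι.appTop ((f + g) * f)) ((t ⁻¹ᵁ W).ι.appTop ((f + g) * g))
    (by rw [hcomm, hW₁, Scheme.preimage_basicOpen_top])
    (by rw [hcomm, hW₂, Scheme.preimage_basicOpen_top]) hcover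

include ht in
/-- **A thickening of an affine scheme is affine.** -/
theorem isAffine_of_thickening : IsAffine X' := by
  obtain ⟨S, hS⟩ : ∃ S : Ideal Γ(X, ⊤), ∀ f, f ∈ S ↔ Good t f :=
    ⟨{ carrier := {f | Good t f}
       add_mem' := fun hf hg => good_add t ht hf hg
       zero_mem' := good_zero t
       smul_mem' := fun a f hf => good_mul t ht hf a }, fun f => Iff.rfl⟩
  have hspan : Ideal.span (S : Set Γ(X, ⊤)) = ⊤ := by
    rw [← (isAffineOpen_top X).self_le_iSup_basicOpen_iff]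
    intro x _
    obtain ⟨_, ⟨W₀, hW₀, rfl⟩, hxW₀, -⟩ := X'.isBasis_affineOpens.exists_subset_of_mem_open
      (Set.mem_univ (t x)) isOpen_univ
    obtain ⟨_, ⟨_, ⟨f, rfl⟩, rfl⟩, hxf, hfW₀⟩ :=
      (isBasis_basicOpen X).exists_subset_of_mem_open (show x ∈ t ⁻¹ᵁ W₀ from hxW₀)
        (t ⁻¹ᵁ W₀).isOpen
    exact Opens.mem_iSup.mpr ⟨⟨f, (hS f).mpr (good_of_le t ht hW₀ f hfW₀)⟩, hxf⟩
  rw [Ideal.span_eq] at hspan
  have h1 : Good t (1 : Γ(X, ⊤)) := (hS 1).mp (by rw [hspan]; trivial)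
  obtain ⟨W, hW, hWa⟩ := h1
  have : W = ⊤ := by
    apply preimage_injective t ht
    rw [hW, Scheme.basicOpen_of_isUnit _ isUnit_one]
    rfl
  rw [this] at hWa
  haveI : IsAffine (⊤ : X'.Opens).toScheme := hWa
  exact IsAffine.of_isIso (Scheme.topIso X').inv

omit [IsAffine X] in
include ht in
lemma morphismRestrict_surjective (W : X'.Opens) : Function.Surjective (t ∣_ W) := by
  intro y
  obtain ⟨x, hx⟩ := ht y.1
  refine ⟨⟨x, by change t x ∈ W; rw [hx]; exact y.2⟩, Subtype.ext ?_⟩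
  exact (morphismRestrict_base_coe t W _).trans hx

omit [IsAffine X] in
include ht in
/-- An open of a thickening is affine as soon as its trace on the thin scheme is. -/
theorem isAffineOpen_of_preimage {W : X'.Opens} (h : IsAffineOpen (t ⁻¹ᵁ W)) :
    IsAffineOpen W := by
  haveI : IsAffine (t ⁻¹ᵁ W).toScheme := h
  exact isAffine_of_thickening (t ∣_ W) (morphismRestrict_surjective t ht W)

omit [IsAffine X] in
include ht in
/-- A morphism from a thickening is affine as soon as its restriction to the thin scheme is. -/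
theorem isAffineHom_of_comp {Y : Scheme.{u}} (f : X' ⟶ Y) [IsAffineHom (t ≫ f)] :
    IsAffineHom f := by
  refine ⟨fun V hV => isAffineOpen_of_preimage t ht ?_⟩
  rw [← Scheme.Hom.comp_preimage]
  exact hV.preimage (t ≫ f)

end Groth.Agent.Lib.Helper28.Thick
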