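import Groth.Agent.Lib.Helper28.Thick.Affine
import Groth.Agent.Lib.Helper28.Pinch.Main

/-!
# Pushouts along thickenings of affine morphisms
-/

set_option autoImplicit false
universe u

open CategoryTheory Limits AlgebraicGeometry TopologicalSpace

namespace Groth.Agent.Lib.Helper28.Thick

open Groth.Agent.Lib.Helper28.Pinch

variable {X X' Y : Scheme.{u}} (t : X ⟶ X') [IsClosedImmersion t] (ht : Function.Surjective t)
  (f : X ⟶ Y) [IsAffineHom f]

include ht in
/-- Adapted pairs exist for a thickening and an affine morphism. -/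
theorem hY_of_thickening : ∀ y : Y, ∃ β : APair t f, y ∈ β.V := by
  intro y
  obtain ⟨_, ⟨V, hV, rfl⟩, hyV, -⟩ := Y.isBasis_affineOpens.exists_subset_of_mem_open
    (Set.mem_univ y) isOpen_univ
  have hhom : IsHomeomorph t := by
    rw [isHomeomorph_iff_isEmbedding_surjective]
    exact ⟨t.isClosedEmbedding.isEmbedding, ht⟩
  obtain ⟨U, hU⟩ : ∃ U : X'.Opens, (U : Set X') = t '' (f ⁻¹ᵁ V : Set X) :=
    ⟨⟨_, hhom.isOpenMap _ (f ⁻¹ᵁ V).isOpen⟩, rfl⟩
  have hUV : t ⁻¹ᵁ U = f ⁻¹ᵁ V := by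
    ext x
    change t x ∈ (U : Set X') ↔ _
    rw [hU]
    exact ⟨fun ⟨x', hx', hxx'⟩ => by rwa [← t.isClosedEmbedding.injective hxx'],
      fun hx => ⟨x, hx, rfl⟩⟩
  exact ⟨⟨U, V, isAffineOpen_of_preimage t ht (hUV ▸ hV.preimage f), hV, hUV⟩, hyV⟩

include ht in
/-- **Pushouts along thickenings of affine morphisms exist**, and have the expected properties. -/
theorem exists_pushout_of_thickening :
    ∃ (Y' : Scheme.{u}) (f' : X' ⟶ Y') (b : Y ⟶ Y'), IsPushout t f f' b ∧ IsPullback t f f' b ∧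
      IsClosedImmersion b ∧ Function.Surjective b := by
  have hY := hY_of_thickening t ht f
  have hP := Glue.isPushout hY
  refine ⟨_, Glue.a hY, Glue.b hY, hP, isPullback_of_isPushout hY hP,
    isClosedImmersion_of_isPushout hY hP, ?_⟩
  intro p
  rcases jointly_surjective_of_isPushout hY hP p with ⟨x', rfl⟩ | ⟨y, rfl⟩
  · obtain ⟨x, rfl⟩ := ht x'
    refine ⟨f x, ?_⟩
    rw [← Scheme.Hom.comp_apply, ← Scheme.Hom.comp_apply, hP.w]
  · exact ⟨y, rfl⟩

end Groth.Agent.Lib.Helper28.Thick
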