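import Mathlib

/-!
# Thickenings of affine schemes are affine: the algebraic two-chart lemma

`RU`, `RV`, `RW` play the role of the rings of sections of a scheme `X'` over two affine opens
`U`, `V` and over `U ∩ V`.  The scheme `X'` contains a closed subscheme `X = Spec A` with the same
underlying space.  We show, by elementary means, that the obstruction to lifting global sections
of `X` to `X'` vanishes.
-/

set_option autoImplicit false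

namespace Groth.Agent.Lib.Helper28.Thick

/-- The localization-type property: elements of an extended ideal become images of elements of
the ideal after multiplication by a power of (the image of) `g`. -/
def LocProp {R S : Type*} [CommRing R] [CommRing S] (ρ : R →+* S) (g : R) : Prop :=
  ∀ (𝔞 : Ideal R) (z : S), z ∈ 𝔞.map ρ → ∃ k : ℕ, ∃ x ∈ 𝔞, z * ρ g ^ k = ρ x

theorem LocProp.of_isLocalization {R S : Type*} [CommRing R] [CommRing S] [Algebra R S] (g : R)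
    [IsLocalization.Away g S] : LocProp (algebraMap R S) g := by
  intro 𝔞 z hz
  obtain ⟨⟨x, ⟨_, k, rfl⟩⟩, hx⟩ :=
    (IsLocalization.mem_map_algebraMap_iff (Submonoid.powers g) S).mp hz
  exact ⟨k, x.1, x.2, by simpa using hx⟩

section LemmaA

variable {RU RV RW : Type*} [CommRing RU] [CommRing RV] [CommRing RW]
  (ρU : RU →+* RW) (ρV : RV →+* RW) (gU : RU) (fV : RV)

/-- Partition of unity with prescribed provenance of the coefficients. -/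
lemma exists_partition (𝔠 : Ideal RW) (a b : RW)
    (haU : ∃ r, ρU r - a ∈ 𝔠) (haV : ∃ r, ρV r - a ∈ 𝔠)
    (hbU : ∃ r, ρU r - b ∈ 𝔠) (hbV : ∃ r, ρV r - b ∈ 𝔠) (hab : a + b - 1 ∈ 𝔠) (k l : ℕ) :
    ∃ (p : RV) (q : RU), 1 - ρV p * a ^ l - ρU q * b ^ k ∈ 𝔠 := by
  obtain ⟨σU, hσU⟩ : ∃ σ : RU →+* RW ⧸ 𝔠, σ = (Ideal.Quotient.mk 𝔠).comp ρU := ⟨_, rfl⟩
  obtain ⟨σV, hσV⟩ : ∃ σ : RV →+* RW ⧸ 𝔠, σ = (Ideal.Quotient.mk 𝔠).comp ρV := ⟨_, rfl⟩
  have key : ∀ {x y : RW}, x - y ∈ 𝔠 → Ideal.Quotient.mk 𝔠 x = Ideal.Quotient.mk 𝔠 y :=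
    fun h => Ideal.Quotient.eq.mpr h
  have ha : Ideal.Quotient.mk 𝔠 a ∈ σU.range ⊓ σV.range := by
    obtain ⟨r, hr⟩ := haU
    obtain ⟨s, hs⟩ := haV
    exact ⟨⟨r, by rw [hσU]; exact key hr⟩, ⟨s, by rw [hσV]; exact key hs⟩⟩
  have hb : Ideal.Quotient.mk 𝔠 b ∈ σU.range ⊓ σV.range := by
    obtain ⟨r, hr⟩ := hbU
    obtain ⟨s, hs⟩ := hbV
    exact ⟨⟨r, by rw [hσU]; exact key hr⟩, ⟨s, by rw [hσV]; exact key hs⟩⟩
  have hsum : Ideal.Quotient.mk 𝔠 a + Ideal.Quotient.mk 𝔠 b = 1 := by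
    rw [← map_add, ← map_one (Ideal.Quotient.mk 𝔠)]
    exact key hab
  have hcop : IsCoprime (⟨_, ha⟩ : ↥(σU.range ⊓ σV.range)) ⟨_, hb⟩ :=
    ⟨1, 1, by rw [one_mul, one_mul]; exact Subtype.ext hsum⟩
  obtain ⟨u, v, huv⟩ := (hcop.pow (m := l) (n := k))
  obtain ⟨p, hp⟩ := u.2.2
  obtain ⟨q, hq⟩ := v.2.1
  refine ⟨p, q, ?_⟩
  rw [← Ideal.Quotient.eq_zero_iff_mem, map_sub, map_sub, map_one, map_mul, map_mul, map_pow,
    map_pow]
  have h1 := congrArg Subtype.val huv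
  have hp' : Ideal.Quotient.mk 𝔠 (ρV p) = (u : RW ⧸ 𝔠) := by rw [← hp, hσV]; rfl
  have hq' : Ideal.Quotient.mk 𝔠 (ρU q) = (v : RW ⧸ 𝔠) := by rw [← hq, hσU]; rfl
  simp only [Subring.coe_add, Subring.coe_mul, Subring.coe_pow, Subring.coe_one] at h1
  rw [hp', hq', ← h1]
  ring

/-- **Lemma A**: for a nilpotent compatible triple of ideals, the ideal on the intersection is the
sum of the images of the ideals on the two charts. -/
theorem mem_add_of_nilpotent (hLU : LocProp ρU gU) (hLV : LocProp ρV fV)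
    (𝔞 : Ideal RU) (𝔟 : Ideal RV) (𝔠 : Ideal RW) (h𝔞 : 𝔞.map ρU = 𝔠) (h𝔟 : 𝔟.map ρV = 𝔠)
    (hnil : IsNilpotent 𝔠)
    (φU βU : RU) (αV γV : RV)
    (hφ : ρU φU - ρV (αV * fV) ∈ 𝔠) (hγ : ρU (βU * gU) - ρV γV ∈ 𝔠)
    (hU1 : φU + βU * gU - 1 ∈ 𝔞) (hV1 : αV * fV + γV - 1 ∈ 𝔟) :
    ∀ z ∈ 𝔠, ∃ x ∈ 𝔞, ∃ y ∈ 𝔟, z = ρU x + ρV y := by
  obtain ⟨m, hm⟩ := hnil
  have hm' : 𝔠 ^ (m + 1) = ⊥ := by rw [pow_succ, hm]; exact zero_mul _
  have hρU : ∀ x ∈ 𝔞, ρU x ∈ 𝔠 := fun x hx => h𝔞 ▸ Ideal.mem_map_of_mem ρU hx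
  have hρV : ∀ y ∈ 𝔟, ρV y ∈ 𝔠 := fun y hy => h𝔟 ▸ Ideal.mem_map_of_mem ρV hy
  -- the partition of unity modulo `𝔠`
  have hpart : ∀ k l : ℕ, ∃ (p : RV) (q : RU),
      1 - ρV p * ρV (αV * fV) ^ l - ρU q * ρU (βU * gU) ^ k ∈ 𝔠 := by
    intro k l
    refine exists_partition ρU ρV 𝔠 (ρV (αV * fV)) (ρU (βU * gU)) ⟨φU, hφ⟩
      ⟨αV * fV, by rw [sub_self]; exact zero_mem _⟩
      ⟨βU * gU, by rw [sub_self]; exact zero_mem _⟩ ⟨γV, ?_⟩ ?_ k l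
    · have := 𝔠.neg_mem hγ
      rwa [neg_sub] at this
    · have h1 := hρV _ hV1
      have : ρV (αV * fV) + ρU (βU * gU) - 1 =
          ρV (αV * fV + γV - 1) + (ρU (βU * gU) - ρV γV) := by
        simp only [map_add, map_sub, map_one]
        ring
      rw [this]
      exact 𝔠.add_mem h1 hγ
  have main : ∀ n j : ℕ, j + n = m + 1 → ∀ z ∈ 𝔠 ^ j,
      ∃ x ∈ 𝔞 ^ j, ∃ y ∈ 𝔟 ^ j, z = ρU x + ρV y := by
    intro n
    induction n with
    | zero =>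
      intro j hj z hz
      rw [add_zero] at hj
      rw [hj, hm'] at hz
      refine ⟨0, zero_mem _, 0, zero_mem _, ?_⟩
      rw [map_zero, map_zero, add_zero]
      exact hz
    | succ n ih =>
      intro j hj z hz
      have hz1 : z ∈ (𝔞 ^ j).map ρU := by rw [Ideal.map_pow, h𝔞]; exact hz
      have hz2 : z ∈ (𝔟 ^ j).map ρV := by rw [Ideal.map_pow, h𝔟]; exact hz
      obtain ⟨k, x, hx, hxz⟩ := hLU _ z hz1
      obtain ⟨l, y, hy, hyz⟩ := hLV _ z hz2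
      obtain ⟨p, q, hpq⟩ := hpart k l
      have hzε : z * (1 - ρV p * ρV (αV * fV) ^ l - ρU q * ρU (βU * gU) ^ k) ∈ 𝔠 ^ (j + 1) := by
        rw [pow_succ]
        exact Ideal.mul_mem_mul hz hpq
      obtain ⟨x', hx', y', hy', hxy'⟩ := ih (j + 1) (by omega) _ hzε
      refine ⟨q * βU ^ k * x + x', ?_, p * αV ^ l * y + y', ?_, ?_⟩
      · exact Ideal.add_mem _ (Ideal.mul_mem_left _ _ hx)
          (Ideal.pow_le_pow_right (Nat.le_succ j) hx')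
      · exact Ideal.add_mem _ (Ideal.mul_mem_left _ _ hy)
          (Ideal.pow_le_pow_right (Nat.le_succ j) hy')
      · simp only [map_add, map_mul, map_pow] at hxy' ⊢
        rw [← hxz, ← hyz]
        linear_combination hxy'
  intro z hz
  obtain ⟨x, hx, y, hy, hxy⟩ := main m 1 (by omega) z (by rwa [pow_one])
  exact ⟨x, by rwa [pow_one] at hx, y, by rwa [pow_one] at hy, hxy⟩

end LemmaA

section Triple

/-- Finitely many elements of an extended ideal come, up to units, from finitely many elements of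
the ideal. -/
lemma exists_finset_lift {R S : Type*} [CommRing R] [CommRing S] {ρ : R →+* S} {g : R}
    (hL : LocProp ρ g) (hg : IsUnit (ρ g)) (I : Ideal R) (T : Finset S)
    (hT : ∀ z ∈ T, z ∈ I.map ρ) :
    ∃ T' : Finset R, (∀ x ∈ T', x ∈ I) ∧ (∀ z ∈ T, z ∈ (Ideal.span (T' : Set R)).map ρ) ∧
      (∀ x ∈ T', ρ x ∈ Ideal.span (T : Set S)) := by
  classical
  have h : ∀ z : T, ∃ k : ℕ, ∃ x ∈ I, (z : S) * ρ g ^ k = ρ x := fun z => hL I z (hT z z.2)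
  choose k x hx hzx using h
  refine ⟨Finset.univ.image x, ?_, ?_, ?_⟩
  · intro y hy
    obtain ⟨z, -, rfl⟩ := Finset.mem_image.mp hy
    exact hx z
  · intro z hz
    have h1 : ρ (x ⟨z, hz⟩) ∈ (Ideal.span ((Finset.univ.image x : Finset R) : Set R)).map ρ :=
      Ideal.mem_map_of_mem ρ (Ideal.subset_span (Finset.mem_coe.mpr
        (Finset.mem_image_of_mem x (Finset.mem_univ _))))
    rw [← hzx ⟨z, hz⟩] at h1
    exact (Ideal.mul_unit_mem_iff_mem _ (hg.pow _)).mp h1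
  · intro y hy
    obtain ⟨z, -, rfl⟩ := Finset.mem_image.mp hy
    rw [← hzx z]
    exact Ideal.mul_mem_right _ _ (Ideal.subset_span z.2)

variable {RU RV RW : Type*} [CommRing RU] [CommRing RV] [CommRing RW]
  (ρU : RU →+* RW) (ρV : RV →+* RW) (gU : RU) (fV : RV)

/-- **The algebraic two-chart lemma**: the kernel ideal on the intersection is the sum of the
images of the kernel ideals on the two charts (no nilpotency assumption, only nil). -/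
theorem exists_add_of_mem (hLU : LocProp ρU gU) (hLV : LocProp ρV fV)
    (hgU : IsUnit (ρU gU)) (hfV : IsUnit (ρV fV))
    (IU : Ideal RU) (IV : Ideal RV) (IW : Ideal RW)
    (hIU : IU.map ρU = IW) (hIV : IV.map ρV = IW) (hnil : IW ≤ nilradical RW)
    (φU βU : RU) (αV γV : RV)
    (hφ : ρU φU - ρV (αV * fV) ∈ IW) (hγ : ρU (βU * gU) - ρV γV ∈ IW)
    (hU1 : φU + βU * gU - 1 ∈ IU) (hV1 : αV * fV + γV - 1 ∈ IV) :
    ∀ c ∈ IW, ∃ x ∈ IU, ∃ y ∈ IV, c = ρU x + ρV y := by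
  classical
  intro c hc
  have hV1' : ρV (αV * fV + γV - 1) ∈ IW := hIV ▸ Ideal.mem_map_of_mem ρV hV1
  -- first lift to `U`
  obtain ⟨T₁, hT₁⟩ : ∃ T₁ : Finset RW, T₁ = {c, ρU φU - ρV (αV * fV), ρU (βU * gU) - ρV γV,
      ρV (αV * fV + γV - 1)} := ⟨_, rfl⟩
  have hT₁I : ∀ z ∈ T₁, z ∈ IU.map ρU := by
    intro z hz
    rw [hIU]
    rw [hT₁] at hz
    simp only [Finset.mem_insert, Finset.mem_singleton] at hz
    rcases hz with rfl | rfl | rfl | rfl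
    · exact hc
    · exact hφ
    · exact hγ
    · exact hV1'
  obtain ⟨T₁', h1a, h1b, h1c⟩ := exists_finset_lift hLU hgU IU T₁ hT₁I
  obtain ⟨SU, hSU⟩ : ∃ SU : Finset RU, SU = insert (φU + βU * gU - 1) T₁' := ⟨_, rfl⟩
  have hSUI : ∀ x ∈ SU, x ∈ IU := by
    intro x hx
    rw [hSU, Finset.mem_insert] at hx
    rcases hx with rfl | hx
    · exact hU1
    · exact h1a x hx
  obtain ⟨𝔞, h𝔞⟩ : ∃ 𝔞 : Ideal RU, 𝔞 = Ideal.span (SU : Set RU) := ⟨_, rfl⟩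
  obtain ⟨𝔠, h𝔠⟩ : ∃ 𝔠 : Ideal RW, 𝔠 = 𝔞.map ρU := ⟨_, rfl⟩
  have h𝔞I : 𝔞 ≤ IU := by
    rw [h𝔞]
    exact Ideal.span_le.mpr fun x hx => hSUI x hx
  have hT₁𝔠 : ∀ z ∈ T₁, z ∈ 𝔠 := by
    intro z hz
    rw [h𝔠, h𝔞]
    refine Ideal.map_mono (Ideal.span_mono ?_) (h1b z hz)
    rw [hSU, Finset.coe_insert]
    exact Set.subset_insert _ _
  -- then lift to `V`
  obtain ⟨T₂, hT₂⟩ : ∃ T₂ : Finset RW, T₂ = SU.image ρU := ⟨_, rfl⟩
  have h𝔠span : 𝔠 = Ideal.span (T₂ : Set RW) := by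
    rw [h𝔠, h𝔞, Ideal.map_span, hT₂, Finset.coe_image]
  have hT₂I : ∀ z ∈ T₂, z ∈ IV.map ρV := by
    intro z hz
    rw [hIV, ← hIU]
    rw [hT₂] at hz
    obtain ⟨x, hx, rfl⟩ := Finset.mem_image.mp hz
    exact Ideal.mem_map_of_mem ρU (hSUI x hx)
  obtain ⟨T₂', h2a, h2b, h2c⟩ := exists_finset_lift hLV hfV IV T₂ hT₂I
  obtain ⟨SV, hSV⟩ : ∃ SV : Finset RV, SV = insert (αV * fV + γV - 1) T₂' := ⟨_, rfl⟩
  obtain ⟨𝔟, h𝔟⟩ : ∃ 𝔟 : Ideal RV, 𝔟 = Ideal.span (SV : Set RV) := ⟨_, rfl⟩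
  have h𝔟I : 𝔟 ≤ IV := by
    rw [h𝔟]
    refine Ideal.span_le.mpr fun x hx => ?_
    rw [hSV, Finset.coe_insert] at hx
    rcases hx with rfl | hx
    · exact hV1
    · exact h2a x hx
  have h𝔟𝔠 : 𝔟.map ρV = 𝔠 := by
    apply le_antisymm
    · rw [h𝔟, Ideal.map_span]
      refine Ideal.span_le.mpr ?_
      rintro _ ⟨y, hy, rfl⟩
      rw [hSV, Finset.coe_insert] at hy
      rcases hy with rfl | hy
      · exact hT₁𝔠 _ (by rw [hT₁]; simp)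
      · rw [h𝔠span]
        exact h2c y hy
    · rw [h𝔠span]
      refine Ideal.span_le.mpr fun z hz => ?_
      rw [h𝔟]
      refine Ideal.map_mono (Ideal.span_mono ?_) (h2b z hz)
      rw [hSV, Finset.coe_insert]
      exact Set.subset_insert _ _
  have hnil𝔠 : IsNilpotent 𝔠 := by
    have hfg : 𝔠.FG := by rw [h𝔠span]; exact ⟨T₂, rfl⟩
    rw [hfg.isNilpotent_iff_le_nilradical]
    refine le_trans ?_ hnil
    rw [h𝔠, ← hIU]
    exact Ideal.map_mono h𝔞I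
  obtain ⟨x, hx, y, hy, hxy⟩ := mem_add_of_nilpotent ρU ρV gU fV hLU hLV 𝔞 𝔟 𝔠 h𝔠.symm h𝔟𝔠
    hnil𝔠 φU βU αV γV (hT₁𝔠 _ (by rw [hT₁]; simp)) (hT₁𝔠 _ (by rw [hT₁]; simp))
    (by rw [h𝔞]; exact Ideal.subset_span (by rw [hSU]; simp))
    (by rw [h𝔟]; exact Ideal.subset_span (by rw [hSV]; simp))
    c (hT₁𝔠 _ (by rw [hT₁]; simp))
  exact ⟨x, h𝔞I hx, y, h𝔟I hy, hxy⟩

end Triple

end Groth.Agent.Lib.Helper28.Thick
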