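import Mathlib

/-!
# Basic facts about thickenings (surjective closed immersions)
-/

set_option autoImplicit false
universe u

open CategoryTheory AlgebraicGeometry TopologicalSpace Opposite

namespace Groth.Agent.Lib.Helper28.Thick

variable {X X' : Scheme.{u}} (t : X ⟶ X')

lemma preimage_injective (ht : Function.Surjective t) {W₁ W₂ : X'.Opens}
    (h : t ⁻¹ᵁ W₁ = t ⁻¹ᵁ W₂) : W₁ = W₂ := by
  ext x
  obtain ⟨y, rfl⟩ := ht x
  exact SetLike.ext_iff.mp h y

lemma app_res {W₁ W₂ : X'.Opens} (h : W₁ ≤ W₂) (s : Γ(X', W₂)) :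
    t.app W₁ (X'.presheaf.map (homOfLE h).op s) =
      X.presheaf.map (homOfLE (t.preimage_mono h)).op (t.app W₂ s) :=
  ConcreteCategory.congr_hom (t.naturality (homOfLE h).op) s

lemma isNilpotent_of_app_eq_zero (ht : Function.Surjective t) {W : X'.Opens}
    (hW : IsCompact (W : Set X')) (s : Γ(X', W)) (hs : t.app W s = 0) : IsNilpotent s := by
  rw [Scheme.isNilpotent_iff_basicOpen_eq_bot_of_isCompact hW]
  apply preimage_injective t ht
  rw [Scheme.preimage_basicOpen, hs, Scheme.basicOpen_zero]
  rfl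

lemma isUnit_of_isUnit_app (ht : Function.Surjective t) {W : X'.Opens} (s : Γ(X', W))
    (hs : IsUnit (t.app W s)) : IsUnit s := by
  have h : X'.basicOpen s = W := by
    apply preimage_injective t ht
    rw [Scheme.preimage_basicOpen, Scheme.basicOpen_of_isUnit _ hs]
  apply RingedSpace.isUnit_of_isUnit_germ
  intro x hx
  have hx' : x ∈ X'.basicOpen s := by rw [h]; exact hx
  exact (X'.mem_basicOpen s x hx).mp hx'

end Groth.Agent.Lib.Helper28.Thick
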