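import Groth.Agent.Lib.Helper28.Thick.Alg
import Groth.Agent.Lib.Helper28.Thick.Basic

/-!
# Thickenings of affine schemes: the two-chart case
-/

set_option autoImplicit false
universe u

open CategoryTheory AlgebraicGeometry TopologicalSpace Opposite

namespace Groth.Agent.Lib.Helper28.Thick

section Loc

variable {X' : Scheme.{u}} {U W : X'.Opens} (hU : IsAffineOpen U) (gU : Γ(X', U))
  (h : W ≤ U) (e : W = X'.basicOpen gU)

include hU e in
lemma locProp_res : LocProp (X'.presheaf.map (homOfLE h).op).hom gU ∧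
    IsUnit ((X'.presheaf.map (homOfLE h).op).hom gU) := by
  letI : Algebra Γ(X', U) Γ(X', W) := (X'.presheaf.map (homOfLE h).op).hom.toAlgebra
  haveI : IsLocalization.Away gU Γ(X', W) := hU.isLocalization_of_eq_basicOpen gU (homOfLE h) e
  exact ⟨LocProp.of_isLocalization gU, IsLocalization.Away.algebraMap_isUnit gU⟩

variable {X : Scheme.{u}} (t : X ⟶ X') [IsClosedImmersion t]

include hU e in
/-- Exactness of localization for the kernel of a closed immersion. -/
lemma ker_map_res : (RingHom.ker (t.app U).hom).map (X'.presheaf.map (homOfLE h).op).hom =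
    RingHom.ker (t.app W).hom := by
  obtain ⟨hL, hu⟩ := locProp_res hU gU h e
  apply le_antisymm
  · rw [Ideal.map_le_iff_le_comap]
    intro x hx
    rw [Ideal.mem_comap, RingHom.mem_ker]
    change t.app W (X'.presheaf.map (homOfLE h).op x) = 0
    rw [app_res, show t.app U x = 0 from hx, map_zero]
  · intro z hz
    letI : Algebra Γ(X', U) Γ(X', W) := (X'.presheaf.map (homOfLE h).op).hom.toAlgebra
    haveI : IsLocalization.Away gU Γ(X', W) :=
      hU.isLocalization_of_eq_basicOpen gU (homOfLE h) e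
    obtain ⟨⟨r, ⟨_, n, rfl⟩⟩, hr⟩ := IsLocalization.surj (Submonoid.powers gU) z
    have hr' : z * (X'.presheaf.map (homOfLE h).op).hom gU ^ n =
        (X'.presheaf.map (homOfLE h).op).hom r := by
      rw [← map_pow]; exact hr
    -- the image of `r` dies on the smaller open
    have hzero : X.presheaf.map (homOfLE (t.preimage_mono h)).op (t.app U r) = 0 := by
      rw [← app_res]
      change t.app W ((X'.presheaf.map (homOfLE h).op).hom r) = 0
      rw [← hr', map_mul, show t.app W z = 0 from hz, zero_mul]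
    have hX : IsAffineOpen (t ⁻¹ᵁ U) := hU.preimage t
    have eX : t ⁻¹ᵁ W = X.basicOpen (t.app U gU) := by
      rw [e, Scheme.preimage_basicOpen]
    letI : Algebra Γ(X, t ⁻¹ᵁ U) Γ(X, t ⁻¹ᵁ W) :=
      (X.presheaf.map (homOfLE (t.preimage_mono h)).op).hom.toAlgebra
    haveI : IsLocalization.Away (t.app U gU) Γ(X, t ⁻¹ᵁ W) :=
      hX.isLocalization_of_eq_basicOpen (t.app U gU) (homOfLE (t.preimage_mono h)) eX
    obtain ⟨⟨_, p, rfl⟩, hp⟩ := (IsLocalization.map_eq_zero_iff
      (Submonoid.powers (t.app U gU)) Γ(X, t ⁻¹ᵁ W) (t.app U r)).mp hzero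
    have hx : gU ^ p * r ∈ RingHom.ker (t.app U).hom := by
      rw [RingHom.mem_ker]
      change t.app U (gU ^ p * r) = 0
      rw [map_mul, map_pow]
      exact hp
    have hmem := Ideal.mem_map_of_mem (X'.presheaf.map (homOfLE h).op).hom hx
    rw [map_mul, map_pow, ← hr', mul_comm, mul_assoc, ← pow_add] at hmem
    exact (Ideal.mul_unit_mem_iff_mem _ (hu.pow _)).mp hmem

end Loc

section TwoChart

variable {X X' : Scheme.{u}} (t : X ⟶ X') [IsClosedImmersion t] (ht : Function.Surjective t)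
  [IsAffine X] {U V : X'.Opens} (hU : IsAffineOpen U) (hV : IsAffineOpen V)
  (f g : Γ(X, ⊤)) (hUf : t ⁻¹ᵁ U = X.basicOpen f) (hVg : t ⁻¹ᵁ V = X.basicOpen g)
  (hUV : U ⊔ V = ⊤)

include hUf hVg hUV in
lemma exists_partition_of_cover : ∃ α β : Γ(X, ⊤), α * f + β * g = 1 := by
  have hspan : Ideal.span ({f, g} : Set Γ(X, ⊤)) = ⊤ := by
    rw [← (isAffineOpen_top X).self_le_iSup_basicOpen_iff]
    intro x _
    have hx : t x ∈ U ⊔ V := by rw [hUV]; trivial
    rcases hx with hx | hx
    · refine Opens.mem_iSup.mpr ⟨⟨f, by simp⟩, ?_⟩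
      rw [← hUf]; exact hx
    · refine Opens.mem_iSup.mpr ⟨⟨g, by simp⟩, ?_⟩
      rw [← hVg]; exact hx
  have h1 : (1 : Γ(X, ⊤)) ∈ Ideal.span ({f, g} : Set Γ(X, ⊤)) := by rw [hspan]; trivial
  obtain ⟨α, β, h⟩ := Ideal.mem_span_pair.mp h1
  exact ⟨α, β, h⟩

/-- Restriction of a global section of `X` to the preimage of an open of `X'`. -/
noncomputable abbrev resT (W : X'.Opens) (a : Γ(X, ⊤)) : Γ(X, t ⁻¹ᵁ W) :=
  X.presheaf.map (homOfLE (le_top : t ⁻¹ᵁ W ≤ ⊤)).op a

lemma resT_res {W₁ W₂ : X'.Opens} (h : W₁ ≤ W₂) (a : Γ(X, ⊤)) :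
    X.presheaf.map (homOfLE (t.preimage_mono h)).op (resT t W₂ a) = resT t W₁ a := by
  change (X.presheaf.map _ ≫ X.presheaf.map _) a = _
  rw [← Functor.map_comp]
  rfl

lemma app_res_of_lift {W₁ W₂ : X'.Opens} (h : W₁ ≤ W₂) (a : Γ(X, ⊤)) (x : Γ(X', W₂))
    (hx : t.app W₂ x = resT t W₂ a) :
    t.app W₁ (X'.presheaf.map (homOfLE h).op x) = resT t W₁ a := by
  rw [app_res t h, hx, resT_res t h]

lemma resT_mul (W : X'.Opens) (a b : Γ(X, ⊤)) : resT t W (a * b) = resT t W a * resT t W b :=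
  map_mul _ _ _

include ht hU hV hUf hVg hUV in
/-- **Global sections lift along a thickening covered by two affine charts.** -/
theorem exists_appTop_eq (a : Γ(X, ⊤)) : ∃ s : Γ(X', ⊤), t.appTop s = a := by
  obtain ⟨α, β, hαβ⟩ := exists_partition_of_cover t f g hUf hVg hUV
  -- lifts to the charts
  have hsU := t.app_surjective U hU
  have hsV := t.app_surjective V hV
  obtain ⟨gU, hgU⟩ := hsU (resT t U g)
  obtain ⟨βU, hβU⟩ := hsU (resT t U β)
  obtain ⟨φU, hφU⟩ := hsU (resT t U (α * f))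
  obtain ⟨fV, hfV⟩ := hsV (resT t V f)
  obtain ⟨αV, hαV⟩ := hsV (resT t V α)
  obtain ⟨γV, hγV⟩ := hsV (resT t V (β * g))
  obtain ⟨aU, haU⟩ := hsU (resT t U a)
  obtain ⟨aV, haV⟩ := hsV (resT t V a)
  -- the intersection is a basic open in both charts
  have eU : U ⊓ V = X'.basicOpen gU := by
    apply preimage_injective t ht
    rw [Scheme.preimage_basicOpen, hgU, Scheme.basicOpen_res, ← hVg]
    rfl
  have eV : U ⊓ V = X'.basicOpen fV := by
    apply preimage_injective t ht
    rw [Scheme.preimage_basicOpen, hfV, Scheme.basicOpen_res, ← hUf, inf_comm]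
    rfl
  obtain ⟨hLU, huU⟩ := locProp_res hU gU inf_le_left eU
  obtain ⟨hLV, huV⟩ := locProp_res hV fV inf_le_right eV
  have hIU := ker_map_res hU gU inf_le_left eU t
  have hIV := ker_map_res hV fV inf_le_right eV t
  have hWc : IsCompact ((U ⊓ V : X'.Opens) : Set X') := by
    rw [eU]; exact (hU.basicOpen gU).isCompact
  have hnil : RingHom.ker (t.app (U ⊓ V)).hom ≤ nilradical Γ(X', U ⊓ V) := by
    intro z hz
    exact isNilpotent_of_app_eq_zero t ht hWc z hz
  -- membership in the kernels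
  have mem_ker : ∀ {W : X'.Opens} (z : Γ(X', W)), t.app W z = 0 → z ∈ RingHom.ker (t.app W).hom :=
    fun z hz => hz
  have key := exists_add_of_mem (X'.presheaf.map (homOfLE (inf_le_left : U ⊓ V ≤ U)).op).hom
    (X'.presheaf.map (homOfLE (inf_le_right : U ⊓ V ≤ V)).op).hom gU fV hLU hLV huU huV
    (RingHom.ker (t.app U).hom) (RingHom.ker (t.app V).hom) (RingHom.ker (t.app (U ⊓ V)).hom)
    hIU hIV hnil φU βU αV γV
    (by
      apply mem_ker
      rw [map_sub]
      change t.app (U ⊓ V) (X'.presheaf.map _ φU) - t.app (U ⊓ V) (X'.presheaf.map _ (αV * fV)) = 0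
      rw [app_res_of_lift t inf_le_left (α * f) φU hφU,
        app_res_of_lift t inf_le_right (α * f) (αV * fV) (by rw [map_mul, hαV, hfV, resT_mul]),
        sub_self])
    (by
      apply mem_ker
      rw [map_sub]
      change t.app (U ⊓ V) (X'.presheaf.map _ (βU * gU)) - t.app (U ⊓ V) (X'.presheaf.map _ γV) = 0
      rw [app_res_of_lift t inf_le_left (β * g) (βU * gU) (by rw [map_mul, hβU, hgU, resT_mul]),
        app_res_of_lift t inf_le_right (β * g) γV hγV, sub_self])
    (by
      apply mem_ker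
      rw [map_sub, map_add, map_mul, map_one, hφU, hβU, hgU, ← map_mul, ← map_add, hαβ, map_one,
        sub_self])
    (by
      apply mem_ker
      rw [map_sub, map_add, map_mul, map_one, hγV, hαV, hfV, ← map_mul, ← map_add, hαβ, map_one,
        sub_self])
    ((X'.presheaf.map (homOfLE (inf_le_left : U ⊓ V ≤ U)).op).hom aU -
      (X'.presheaf.map (homOfLE (inf_le_right : U ⊓ V ≤ V)).op).hom aV)
    (by
      apply mem_ker
      rw [map_sub]
      change t.app (U ⊓ V) (X'.presheaf.map _ aU) - t.app (U ⊓ V) (X'.presheaf.map _ aV) = 0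
      rw [app_res_of_lift t inf_le_left a aU haU, app_res_of_lift t inf_le_right a aV haV,
        sub_self])
  obtain ⟨x, hx, y, hy, hxy⟩ := key
  -- glue the corrected lifts
  have hglue : (X'.presheaf.map (homOfLE (inf_le_left : U ⊓ V ≤ U)).op).hom (aU - x) =
      (X'.presheaf.map (homOfLE (inf_le_right : U ⊓ V ≤ V)).op).hom (aV + y) := by
    rw [map_sub, map_add]
    linear_combination hxy
  obtain ⟨s₀, hs₀⟩ : ∃ s₀ : Γ(X', U ⊔ V), s₀ = (X'.sheaf.objSupIsoProdEqLocus U V).inv
      ⟨(aU - x, aV + y), hglue⟩ := ⟨_, rfl⟩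
  have hs₀U : X'.presheaf.map (homOfLE (le_sup_left : U ≤ U ⊔ V)).op s₀ = aU - x := by
    rw [hs₀]; exact X'.sheaf.objSupIsoProdEqLocus_inv_fst U V _
  have hs₀V : X'.presheaf.map (homOfLE (le_sup_right : V ≤ U ⊔ V)).op s₀ = aV + y := by
    rw [hs₀]; exact X'.sheaf.objSupIsoProdEqLocus_inv_snd U V _
  refine ⟨X'.presheaf.map (homOfLE hUV.ge).op s₀, ?_⟩
  have hsU' : X'.presheaf.map (homOfLE (le_top : U ≤ ⊤)).op
      (X'.presheaf.map (homOfLE hUV.ge).op s₀) = aU - x := by
    rw [← hs₀U]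
    change (X'.presheaf.map _ ≫ X'.presheaf.map _) s₀ = _
    rw [← Functor.map_comp]
    rfl
  have hsV' : X'.presheaf.map (homOfLE (le_top : V ≤ ⊤)).op
      (X'.presheaf.map (homOfLE hUV.ge).op s₀) = aV + y := by
    rw [← hs₀V]
    change (X'.presheaf.map _ ≫ X'.presheaf.map _) s₀ = _
    rw [← Functor.map_comp]
    rfl
  refine X.sheaf.eq_of_locally_eq₂ (homOfLE (le_top : t ⁻¹ᵁ U ≤ ⊤))
    (homOfLE (le_top : t ⁻¹ᵁ V ≤ ⊤)) ?_ _ _ ?_ ?_
  · intro z _
    have hz : t z ∈ U ⊔ V := by rw [hUV]; trivial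
    exact hz
  · change X.presheaf.map (homOfLE (t.preimage_mono (le_top : U ≤ ⊤))).op
      (t.app ⊤ (X'.presheaf.map (homOfLE hUV.ge).op s₀)) = resT t U a
    rw [← app_res t (le_top : U ≤ ⊤), hsU', map_sub, haU, show t.app U x = 0 from hx, sub_zero]
  · change X.presheaf.map (homOfLE (t.preimage_mono (le_top : V ≤ ⊤))).op
      (t.app ⊤ (X'.presheaf.map (homOfLE hUV.ge).op s₀)) = resT t V a
    rw [← app_res t (le_top : V ≤ ⊤), hsV', map_add, haV, show t.app V y = 0 from hy, add_zero]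

include ht hU hV hUf hVg hUV in
/-- **A thickening of an affine scheme that is covered by two affine charts (coming from basic
opens of the affine scheme) is affine.** -/
theorem isAffine_of_two_charts : IsAffine X' := by
  obtain ⟨α, β, hαβ⟩ := exists_partition_of_cover t f g hUf hVg hUV
  obtain ⟨rf, hrf⟩ := exists_appTop_eq t ht hU hV f g hUf hVg hUV f
  obtain ⟨rg, hrg⟩ := exists_appTop_eq t ht hU hV f g hUf hVg hUV g
  obtain ⟨rα, hrα⟩ := exists_appTop_eq t ht hU hV f g hUf hVg hUV α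
  obtain ⟨rβ, hrβ⟩ := exists_appTop_eq t ht hU hV f g hUf hVg hUV β
  have hunit : IsUnit (rα * rf + rβ * rg) := by
    apply isUnit_of_isUnit_app t ht
    change IsUnit (t.appTop (rα * rf + rβ * rg))
    rw [map_add, map_mul, map_mul, hrα, hrf, hrβ, hrg, hαβ]
    exact isUnit_one
  have hspan : Ideal.span ({rf, rg} : Set Γ(X', ⊤)) = ⊤ := by
    apply Ideal.eq_top_of_isUnit_mem _ _ hunit
    exact Ideal.add_mem _ (Ideal.mul_mem_left _ _ (Ideal.subset_span (by simp)))
      (Ideal.mul_mem_left _ _ (Ideal.subset_span (by simp)))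
  have hbU : X'.basicOpen rf = U := by
    apply preimage_injective t ht
    rw [Scheme.preimage_basicOpen]
    change X.basicOpen (t.appTop rf) = _
    rw [hrf, hUf]
  have hbV : X'.basicOpen rg = V := by
    apply preimage_injective t ht
    rw [Scheme.preimage_basicOpen]
    change X.basicOpen (t.appTop rg) = _
    rw [hrg, hVg]
  refine isAffine_of_isAffineOpen_basicOpen {rf, rg} hspan ?_
  rintro r (rfl | hr)
  · rw [hbU]; exact hU
  · rw [Set.mem_singleton_iff] at hr
    rw [hr, hbV]; exact hV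

end TwoChart

end Groth.Agent.Lib.Helper28.Thick
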